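import Cfsg.Agent.Lib.Blocks.CyclicDefect.BlockIdem

/-!
# A central idempotent contains or kills each block idempotent
-/

set_option autoImplicit false
set_option linter.unusedSectionVars false
set_option linter.style.haveILetI false

namespace CfsgLib.Blocks.NormalDefect

open Cfsg CfsgLib.GrpRing
open CyclicDefect (eB)
open scoped ComplexConjugate CfsgLib.Char

variable {p : ℕ} {M : Ideal AlgInt} [M.IsPrime] {G : Type*} [Group G] [Fintype G]

/-- A central idempotent of the group algebra contains or kills a block idempotent. -/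
theorem idem_mul_eB {a : KG M G} (ha : a ∈ fixAlg (ResField M) (Set.univ : Set G))
    (hid : IsIdempotentElem a) {b : Set (IrrCharacter G)} (hb : IsPBlock M b) :
    a * eB M b = 0 ∨ a * eB M b = eB M b := by
  classical
  obtain ⟨E, hE, hEid, hEr⟩ := exists_lift_idempotent' hid ha
  set v : G → ℂ := fun g => ((E.coeff g : locRing M) : ℂ) with hv
  have hvc : IsClassFunction G v := fun g h =>
    congrArg Subtype.val (mem_fixAlg_iff.mp hE h (Set.mem_univ h) g)
  have hvl : ∀ g, MemLocalRing M (v g) := fun g => (E.coeff g).2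
  have hvv : conv v v = v := funext fun g => by
    rw [conv]
    conv_rhs => rw [hv]; simp only; rw [← hEid.eq, coeff_mul_fintype, AddSubmonoidClass.coe_finsetSum]
    exact Finset.sum_congr rfl fun y _ => by rw [MulMemClass.coe_mul]
  obtain ⟨S, hS, hSv⟩ := exists_blockUnion_of_idempotent (M := M)
    (v := fun χ : IrrCharacter G => omega (χ : G → ℂ) v) (omega_mem_ZO hvc hvl) (funext fun χ => by
      rw [Pi.mul_apply, ← omega_conv χ hvc hvc, hvv])
  have hveq : v = blockCoeff S := eq_of_omega_eq hvc (isClassFunction_blockCoeff S) fun χ => by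
    rw [omega_blockCoeff]
    exact congrFun hSv χ
  have hbl := IsPBlock.memLocalRing_blockCoeff hb
  have hcoef : ∀ g, (a * eB M b).coeff g = res M (conv (blockCoeff S) (blockCoeff b) g) := fun g => by
    rw [coeff_mul_fintype, conv, ← hveq,
      res_sum _ _ fun y _ => memLocalRing_mul (hvl y) (hbl _)]
    refine Finset.sum_congr rfl fun y _ => ?_
    rw [res_mul (hvl y) (hbl _), CyclicDefect.coeff_eB, ← hEr, coeff_red]
    congr 1
    exact (res_coe (E.coeff y)).symm
  have hconv : ∀ w : G → ℂ, IsClassFunction G w →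
      (∀ χ : IrrCharacter G, omega (χ : G → ℂ) w = indVec S χ * indVec b χ) →
      conv (blockCoeff S) (blockCoeff b) = w := fun w hw h =>
    eq_of_omega_eq (isClassFunction_conv (isClassFunction_blockCoeff S) (isClassFunction_blockCoeff b))
      hw fun χ => by
        rw [omega_conv χ (isClassFunction_blockCoeff S) (isClassFunction_blockCoeff b),
          omega_blockCoeff, omega_blockCoeff, h]
  obtain ⟨χ₀, hχ₀⟩ := IsPBlock.nonempty hb
  by_cases h0 : χ₀ ∈ S
  · right
    refine MonoidAlgebra.ext (Finsupp.ext fun g => ?_)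
    rw [hcoef, hconv _ (isClassFunction_blockCoeff b), CyclicDefect.coeff_eB]
    intro χ
    rw [omega_blockCoeff]
    by_cases h : χ ∈ b
    · rw [indVec_of_mem (hS χ₀ h0 χ (IsPBlock.sameBlock hb hχ₀ h)), one_mul]
    · rw [indVec_of_notMem h, mul_zero]
  · left
    refine MonoidAlgebra.ext (Finsupp.ext fun g => ?_)
    rw [hcoef, hconv 0 (fun _ _ => rfl)]
    · exact res_zero
    intro χ
    rw [show omega (χ : G → ℂ) (0 : G → ℂ) = 0 by simp [omega]]
    by_cases h : χ ∈ b
    · rw [indVec_of_notMem fun hs => h0 (hS χ hs χ₀ (IsPBlock.sameBlock hb h hχ₀)), zero_mul]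
    · rw [indVec_of_notMem h, mul_zero]

theorem mapK_inj {H : Subgroup G} [Fintype H] : Function.Injective (CyclicDefect.mapK M H.subtype) := by
  classical
  intro a b h
  refine MonoidAlgebra.ext (Finsupp.ext fun x => ?_)
  have h1 := congrArg (fun v : KG M G => v.coeff (x : G)) h
  simp only [CyclicDefect.coeff_mapK] at h1
  have hs : (Finset.univ.filter fun y : H => H.subtype y = (x : G)) = {x} := by
    ext y
    simp
  rwa [hs, Finset.sum_singleton, Finset.sum_singleton] at h1

/-- An idempotent supported on `H` and fixed by it contains or kills a block idempotent of `H`. -/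
theorem idem_mul_blkK {H : Subgroup G} [Fintype H] {a : KG M G}
    (ha : a ∈ fixAlg (ResField M) (H : Set G)) (hid : IsIdempotentElem a)
    (hsupp : ∀ g ∉ H, a.coeff g = 0) {b : Set (IrrCharacter H)} (hb : IsPBlock M b) :
    a * blkK M H b = 0 ∨ a * blkK M H b = blkK M H b := by
  classical
  set a' : KG M H := ofFun fun x => a.coeff (x : G) with ha'
  have hmap : CyclicDefect.mapK M H.subtype a' = a := by
    refine MonoidAlgebra.ext (Finsupp.ext fun g => ?_)
    rw [CyclicDefect.coeff_mapK]
    by_cases hg : g ∈ H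
    · rw [Finset.sum_eq_single ⟨g, hg⟩, ha', coeff_ofFun]
      · exact fun x hx hne => absurd (Subtype.ext (Finset.mem_filter.mp hx).2) hne
      · exact fun h => absurd (Finset.mem_filter.mpr
          ⟨Finset.mem_univ (⟨g, hg⟩ : H), (rfl : H.subtype ⟨g, hg⟩ = g)⟩) h
    · rw [hsupp g hg]
      exact Finset.sum_eq_zero fun x hx => absurd ((Finset.mem_filter.mp hx).2 ▸ x.2) hg
  have hfix : a' ∈ fixAlg (ResField M) (Set.univ : Set H) := mem_fixAlg_iff.mpr fun s _ g => by
    rw [ha', coeff_ofFun, coeff_ofFun]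
    exact mem_fixAlg_iff.mp ha (s : G) s.2 (g : G)
  have hid' : IsIdempotentElem a' := mapK_inj (by rw [map_mul, hmap, hid.eq])
  rw [← hmap, ← CyclicDefect.mapK_eB, ← map_mul]
  rcases idem_mul_eB hfix hid' hb with h | h
  · exact Or.inl (by rw [h, map_zero])
  · exact Or.inr (by rw [h])

theorem blkK_ne_zero (hM : IsPModular p M) {H : Subgroup G} [Fintype H] {b : Set (IrrCharacter H)}
    (hb : IsPBlock M b) : blkK M H b ≠ 0 := by
  intro h
  obtain ⟨g, hg, hsyl⟩ := exists_isDefectClass hM hb
  have h1 : eB M b = 0 := mapK_inj (M := M) (by rw [CyclicDefect.mapK_eB, h, map_zero])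
  refine hsyl.1 ((res_eq_zero_iff hg).mp ?_)
  rw [← CyclicDefect.coeff_eB, h1]
  rfl

end CfsgLib.Blocks.NormalDefect
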