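import Cfsg.Agent.Lib.Blocks.NormalDefect.CentralIdem
import Cfsg.Agent.Lib.Blocks.BlockNilpotent

/-!
# Fusion of a block with a normal defect group

A pair below `(D, c)`, `D` normal, covers the block `c` of `C(D)`; the blocks covered by a pair
`(Q, b)` are conjugate under `C(Q)`.  So the stabilizer of `(Q, b)` induces on `Q` no more than
that of `(D, c)`.
-/

set_option autoImplicit false
set_option linter.unusedSectionVars false
set_option linter.style.haveILetI false

namespace CfsgLib.Blocks.NormalDefect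

open Cfsg CfsgLib.GrpRing
open scoped ComplexConjugate CfsgLib.Char

variable {p : ℕ} {M : Ideal AlgInt} [M.IsPrime] {G : Type*} [Group G] [Fintype G]
  {D : Subgroup G} [hDn : D.Normal]

theorem mem_normalizer_cent (x : G) :
    x ∈ Subgroup.normalizer (Subgroup.centralizer (D : Set G) : Set G) :=
  mem_normalizer_centralizer (by rw [Subgroup.normalizer_eq_top]; exact Subgroup.mem_top x)

theorem conj_mem_cent_iff (x g : G) :
    x * g * x⁻¹ ∈ Subgroup.centralizer (D : Set G) ↔ g ∈ Subgroup.centralizer (D : Set G) :=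
  conj_mem_iff_of_mem_normalizer (mem_normalizer_cent x) g

/-- The conjugate of a set of characters of `C(D)`. -/
def cn (x : G) (c : Set (IrrCharacter (Subgroup.centralizer (D : Set G)))) :
    Set (IrrCharacter (Subgroup.centralizer (D : Set G))) :=
  conjSet x (Subgroup.centralizer (D : Set G)) (Subgroup.centralizer (D : Set G)) c

theorem cn_cn (x y : G) (c : Set (IrrCharacter (Subgroup.centralizer (D : Set G)))) :
    cn y (cn x c) = cn (y * x) c :=
  conjSet_conjSet (conj_mem_cent_iff x) (conj_mem_cent_iff y) c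

theorem cn_one (c : Set (IrrCharacter (Subgroup.centralizer (D : Set G)))) : cn 1 c = c :=
  conjSet_of_mem (one_mem _) c

theorem conjAlg_blkK_cn (x : G) (c : Set (IrrCharacter (Subgroup.centralizer (D : Set G)))) :
    conjAlg (ResField M) x (blkK M (Subgroup.centralizer (D : Set G)) c) =
      blkK M (Subgroup.centralizer (D : Set G)) (cn x c) :=
  conjAlg_blkK (conj_mem_cent_iff x) c

variable {c : Set (IrrCharacter (Subgroup.centralizer (D : Set G)))}

open Classical in
variable (M) in
/-- The blocks conjugate to `c` under `L`. -/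
noncomputable def orb (L : Subgroup G) (c : Set (IrrCharacter (Subgroup.centralizer (D : Set G)))) :
    Finset (Set (IrrCharacter (Subgroup.centralizer (D : Set G)))) :=
  (blocks M (Subgroup.centralizer (D : Set G))).filter fun c' => ∃ l ∈ L, cn l c = c'

variable (M) in
/-- The sum of their idempotents. -/
noncomputable def orbSum (L : Subgroup G)
    (c : Set (IrrCharacter (Subgroup.centralizer (D : Set G)))) : KG M G :=
  ∑ c' ∈ orb M L c, blkK M (Subgroup.centralizer (D : Set G)) c'

variable {L : Subgroup G}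

theorem mem_orb (hc : IsPBlock M c) {c' : Set (IrrCharacter (Subgroup.centralizer (D : Set G)))} :
    c' ∈ orb M L c ↔ ∃ l ∈ L, cn l c = c' := by
  classical
  rw [orb, Finset.mem_filter, mem_blocks]
  exact ⟨And.right, fun h => ⟨by
    obtain ⟨l, -, rfl⟩ := h
    exact isPBlock_conjSet (conj_mem_cent_iff l) hc, h⟩⟩

theorem isPBlock_of_mem_orb {c' : Set (IrrCharacter (Subgroup.centralizer (D : Set G)))}
    (h : c' ∈ orb M L c) : IsPBlock M c' := by
  classical
  exact mem_blocks.mp (Finset.mem_filter.mp h).1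

theorem conjAlg_orbSum (hc : IsPBlock M c) {l : G} (hl : l ∈ L) :
    conjAlg (ResField M) l (orbSum M L c) = orbSum M L c := by
  classical
  rw [orbSum, map_sum]
  refine Finset.sum_bij' (fun c' _ => cn l c') (fun c' _ => cn l⁻¹ c') ?_ ?_ ?_ ?_ ?_
  · intro c' h
    obtain ⟨k, hk, rfl⟩ := (mem_orb hc).mp h
    exact (mem_orb hc).mpr ⟨l * k, mul_mem hl hk, (cn_cn k l c).symm⟩
  · intro c' h
    obtain ⟨k, hk, rfl⟩ := (mem_orb hc).mp h
    exact (mem_orb hc).mpr ⟨l⁻¹ * k, mul_mem (inv_mem hl) hk, (cn_cn k l⁻¹ c).symm⟩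
  · intro c' _
    rw [cn_cn, inv_mul_cancel, cn_one]
  · intro c' _
    rw [cn_cn, mul_inv_cancel, cn_one]
  · intro c' _
    exact conjAlg_blkK_cn l c'

theorem orbSum_mem_fixAlg (hc : IsPBlock M c) : orbSum M L c ∈ fixAlg (ResField M) (L : Set G) :=
  mem_fixAlg_iff.mpr fun s hs g => by
    conv_lhs => rw [← conjAlg_orbSum hc hs]
    rw [coeff_conjAlg]
    congr 1
    group

theorem coeff_orbSum {g : G} (hg : g ∉ Subgroup.centralizer (D : Set G)) :
    (orbSum M L c).coeff g = 0 := by
  rw [orbSum, MonoidAlgebra.coeff_sum, Finsupp.finsetSum_apply]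
  exact Finset.sum_eq_zero fun c' _ => coeff_blkK_of_notMem c' hg

theorem orbSum_mul_self (hc : IsPBlock M c) :
    orbSum M L c * blkK M (Subgroup.centralizer (D : Set G)) c =
      blkK M (Subgroup.centralizer (D : Set G)) c := by
  classical
  rw [orbSum, Finset.sum_mul, Finset.sum_eq_single c]
  · exact (isIdempotentElem_blkK hc).eq
  · exact fun c' h hne => blkK_mul_ne (isPBlock_of_mem_orb h) hc hne
  · exact fun h => absurd ((mem_orb hc).mpr ⟨1, one_mem L, cn_one c⟩) h

theorem orbSum_mul_eq_zero (hc : IsPBlock M c)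
    {c' : Set (IrrCharacter (Subgroup.centralizer (D : Set G)))} (hc' : IsPBlock M c')
    (h : ¬ ∃ l ∈ L, cn l c = c') :
    orbSum M L c * blkK M (Subgroup.centralizer (D : Set G)) c' = 0 := by
  classical
  rw [orbSum, Finset.sum_mul]
  exact Finset.sum_eq_zero fun d hd =>
    blkK_mul_ne (isPBlock_of_mem_orb hd) hc' fun e => h ((mem_orb hc).mp (e ▸ hd))

theorem isIdempotentElem_orbSum : IsIdempotentElem (orbSum M L c) := by
  classical
  rw [IsIdempotentElem, orbSum, Finset.sum_mul]
  refine Finset.sum_congr rfl fun d hd => ?_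
  rw [Finset.mul_sum, Finset.sum_eq_single d]
  · exact (isIdempotentElem_blkK (isPBlock_of_mem_orb hd)).eq
  · exact fun d' hd' hne =>
      blkK_mul_ne (isPBlock_of_mem_orb hd) (isPBlock_of_mem_orb hd') (Ne.symm hne)
  · exact fun h => absurd hd h

variable (M) in
/-- The block `b` of `C(Q)` covers `c`. -/
def Cov (a : BrauerPairIdx G) (c : Set (IrrCharacter (Subgroup.centralizer (D : Set G)))) : Prop :=
  blkK M (Subgroup.centralizer (a.1 : Set G)) a.2 * blkK M (Subgroup.centralizer (D : Set G)) c ≠ 0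

/-- Covering goes down along inclusions. -/
theorem cov_of_le (hM : IsPModular p M) (hDc : IsBrauerPair p M D c) {a : BrauerPairIdx G}
    (h : Relation.ReflTransGen (NormalSubpairRel p M) a ⟨D, c⟩) : Cov M a c := by
  classical
  have : Fact p.Prime := ⟨hM.1⟩
  have := charP_resField hM
  have hc : IsPBlock M c := hDc.2
  induction h using Relation.ReflTransGen.head_induction_on with
  | refl =>
    show blkK M _ c * blkK M _ c ≠ 0
    rw [(isIdempotentElem_blkK hc).eq]
    exact blkK_ne_zero hM hc
  | head hab hrest ih =>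
    rename_i a b
    obtain ⟨U, g⟩ := a
    obtain ⟨W, h⟩ := b
    obtain ⟨⟨-, hg⟩, ⟨hW, hh⟩, hUW, hWN, hst, hval⟩ := id (hab : IsNormalSubpair p M U g W h)
    have hns : IsNormalSubpair p M U g W h := hab
    have hWD : W ≤ D := SubpairLE.le (hrest : SubpairLE p M W h D c)
    have hCW : Subgroup.centralizer (D : Set G) ≤ Subgroup.centralizer (W : Set G) :=
      Subgroup.centralizer_le hWD
    set F := orbSum M (blockT U g) c with hF
    have hWT : W ≤ blockT U g := fun w hw => mem_blockT.mpr ⟨hWN hw, hst w hw⟩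
    have hFfix : F ∈ fixAlg (ResField M) (W : Set G) :=
      fixAlg_anti (fun w hw => hWT hw) (orbSum_mem_fixAlg hc)
    have hgfix : blkK M (Subgroup.centralizer (U : Set G)) g ∈ fixAlg (ResField M) (W : Set G) :=
      mem_fixAlg.mpr fun w hw => by
        obtain ⟨h1, h2⟩ := stabilizesBlock_iff.mp (hst w hw)
        exact blkK_fixed_of_conjSet h1 h2
    have hFW : trunc W F = F := trunc_eq_self fun x hx => coeff_orbSum fun hx' => hx (hCW hx')
    have key : trunc W (blkK M (Subgroup.centralizer (U : Set G)) g * F) *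
        (blkK M (Subgroup.centralizer (W : Set G)) h *
          blkK M (Subgroup.centralizer (D : Set G)) c) =
        blkK M (Subgroup.centralizer (W : Set G)) h *
          blkK M (Subgroup.centralizer (D : Set G)) c := by
      rw [trunc_mul hW hgfix hFfix, hFW, mul_assoc, ← mul_assoc F]
      conv_lhs => arg 2; arg 1; rw [← hFW, ← (commute_blkK_trunc W h F).eq, hFW]
      rw [mul_assoc _ F, orbSum_mul_self hc, ← mul_assoc,
        (trunc_blkK_mul hM hW hUW hWN hg hst hh).1 hns]
    have hne : blkK M (Subgroup.centralizer (U : Set G)) g * F ≠ 0 := fun h0 => by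
      rw [h0, map_zero, zero_mul] at key
      exact ih key.symm
    rw [hF, orbSum, Finset.mul_sum] at hne
    obtain ⟨c', hc', hne'⟩ := Finset.exists_ne_zero_of_sum_ne_zero hne
    obtain ⟨l, hl, rfl⟩ := (mem_orb hc).mp hc'
    intro h0
    refine hne' ?_
    obtain ⟨h1, h2⟩ := stabilizesBlock_iff.mp (mem_blockT.mp hl).2
    have h3 := congrArg (conjAlg (ResField M) l) h0
    rw [map_mul, map_zero, conjAlg_blkK (conj_mem_iff_of_mem_normalizer h1), h2,
      conjAlg_blkK_cn] at h3
    exact h3

/-- The blocks covered by `(Q, b)` are conjugate under `C(Q)`. -/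
theorem cov_conj {Q : Subgroup G} {b : Set (IrrCharacter (Subgroup.centralizer (Q : Set G)))}
    (hb : IsPBlock M b) (hQD : Q ≤ D)
    {c' : Set (IrrCharacter (Subgroup.centralizer (D : Set G)))} (hc : IsPBlock M c)
    (hc' : IsPBlock M c') (h : Cov M ⟨Q, b⟩ c) (h' : Cov M ⟨Q, b⟩ c') :
    ∃ z ∈ Subgroup.centralizer (Q : Set G), cn z c = c' := by
  classical
  by_contra hno
  set F := orbSum M (Subgroup.centralizer (Q : Set G)) c with hF
  have hsupp : ∀ g ∉ Subgroup.centralizer (Q : Set G), F.coeff g = 0 := fun g hg =>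
    coeff_orbSum fun hg' => hg (Subgroup.centralizer_le hQD hg')
  have hcomm : F * blkK M (Subgroup.centralizer (Q : Set G)) b =
      blkK M (Subgroup.centralizer (Q : Set G)) b * F := by
    rw [← trunc_eq_self hsupp]
    exact (commute_blkK_trunc Q b F).eq.symm
  rcases idem_mul_blkK (orbSum_mem_fixAlg hc) isIdempotentElem_orbSum hsupp hb with h0 | h0
  · refine h ?_
    rw [← orbSum_mul_self (L := Subgroup.centralizer (Q : Set G)) hc, ← mul_assoc, ← hF, ← hcomm, h0,
      zero_mul]
  · refine h' ?_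
    show blkK M (Subgroup.centralizer (Q : Set G)) b * _ = 0
    rw [← h0, hcomm, mul_assoc, orbSum_mul_eq_zero hc hc' hno, mul_zero]

/-- **The stabilizer of a pair below `(D, c)` acts on it through that of `(D, c)`.** -/
theorem exists_agree (hM : IsPModular p M) (hDc : IsBrauerPair p M D c) {Q : Subgroup G}
    {b : Set (IrrCharacter (Subgroup.centralizer (Q : Set G)))} (hle : SubpairLE p M Q b D c)
    {x : G} (hx : x ∈ blockT Q b) :
    ∃ z ∈ Subgroup.centralizer (Q : Set G), z⁻¹ * x ∈ blockT D c := by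
  classical
  have hb : IsPBlock M b := (SubpairLE.isBrauerPair hle hDc).2
  have hxD : x ∈ Subgroup.normalizer (D : Set G) := by
    rw [Subgroup.normalizer_eq_top]; exact Subgroup.mem_top x
  obtain ⟨hxQ, hst⟩ := mem_blockT.mp hx
  have hle' : SubpairLE p M Q b D (cn x c) := by
    have h := subpairLE_conjPair x (a := ⟨Q, b⟩) (b := ⟨D, c⟩) hle
    rw [conjPair_of_mem_normalizer hxQ, conjPair_of_mem_normalizer hxD,
      (stabilizesBlock_iff.mp hst).2] at h
    exact h
  have hc' : IsPBlock M (cn x c) := isPBlock_conjSet (conj_mem_cent_iff x) hDc.2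
  obtain ⟨z, hz, hzc⟩ := cov_conj hb (SubpairLE.le hle) hDc.2 hc' (cov_of_le hM hDc hle)
    (cov_of_le hM ⟨hDc.1, hc'⟩ hle')
  refine ⟨z, hz, mem_blockT.mpr ⟨?_, stabilizesBlock_iff.mpr ⟨mem_normalizer_cent _, ?_⟩⟩⟩
  · rw [Subgroup.normalizer_eq_top]; exact Subgroup.mem_top _
  · show cn (z⁻¹ * x) c = c
    rw [← cn_cn, ← hzc, cn_cn, inv_mul_cancel, cn_one]

end CfsgLib.Blocks.NormalDefect
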