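import Cfsg.Agent.Lib.Blocks.NormalDefect.Fusion
import Cfsg.Agent.Lib.Blocks.EqualDegree.Inertia
import Cfsg.Agent.Lib.Blocks.CoveringDefect
import Cfsg.Agent.Lib.Blocks.NormalPBlocks
import Cfsg.Agent.Lib.Char.Artin
import Cfsg.Agent.Lib.Char.Projective
import Cfsg.Agent.Lib.Char.Constituents
import Cfsg.Agent.Lib.Coprime.Action
import Cfsg.Agent.Lib.PSolvable.Omega

/-!
# Equal height zero degrees with a normal defect group

The characters of the block with `[D, D]` in the kernel form blocks of `G/[D, D]` with abelian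
defect group and equal degrees, so their inertial quotient is trivial.  An element of order prime
to `p` stabilizing the block `c` of `C(D)` stabilizes such a pair, as the characters involved agree
on the elements of order prime to `p`; so it is trivial on `D/[D, D]`, hence on `D`.
-/

set_option autoImplicit false
set_option linter.unusedSectionVars false
set_option linter.style.haveILetI false

namespace CfsgLib.Blocks.NormalDefect

open Cfsg
open scoped ComplexConjugate CfsgLib.Char

variable {p : ℕ} {M : Ideal AlgInt} [M.IsPrime] {G : Type*} [Group G] [Fintype G]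
  {B : Set (IrrCharacter G)}

/-- Two characters that agree on the elements of order prime to `p` lie in one block. -/
theorem sameBlock_of_regular_eq (hM : IsPModular p M) {χ ψ : IrrCharacter G}
    (h : ∀ g, IsPRegular p g → (χ : G → ℂ) g = (ψ : G → ℂ) g) :
    SameBlock M (χ : G → ℂ) (ψ : G → ℂ) := by
  classical
  refine sameBlock_of_classInner_regPart_ne_zero hM fun h0 => ?_
  rw [classInner, mul_eq_zero] at h0
  have h1 := h0.resolve_left (inv_ne_zero (Nat.cast_ne_zero.mpr Nat.card_pos.ne'))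
  rw [Finset.sum_congr rfl (g := fun g => ((if IsPRegular p g then
      Complex.normSq ((ψ : G → ℂ) g) else 0 : ℝ) : ℂ)) fun g _ => by
    by_cases hg : IsPRegular p g
    · rw [regPart_of_regular hg, if_pos hg, h g hg, Complex.mul_conj]
    · rw [regPart_of_singular hg, if_neg hg, zero_mul, Complex.ofReal_zero],
    ← Complex.ofReal_sum, Complex.ofReal_eq_zero,
    Finset.sum_eq_zero_iff_of_nonneg fun g _ => by
      split_ifs
      exacts [Complex.normSq_nonneg _, le_rfl]] at h1
  have h2 := h1 1 (Finset.mem_univ 1)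
  rw [if_pos (by rw [IsPRegular, orderOf_one]; exact hM.1.not_dvd_one), Complex.normSq_eq_zero] at h2
  exact Char.irr_degree_ne_zero ψ.2 h2

theorem isPRegular_map {H : Type*} [Group H] {g : G} (f : G →* H) (hg : IsPRegular p g) :
    IsPRegular p (f g) := fun h => hg (h.trans (orderOf_map_dvd f g))

/-- An element of order prime to `p` of a quotient has a preimage of order prime to `p`. -/
theorem exists_regular_lift (hM : IsPModular p M) (N : Subgroup G) [N.Normal] (g : G)
    (hg : IsPRegular p (QuotientGroup.mk' N g)) :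
    ∃ y : G, IsPRegular p y ∧ QuotientGroup.mk' N y = QuotientGroup.mk' N g := by
  have : Fact p.Prime := ⟨hM.1⟩
  obtain ⟨x, hx, -⟩ := exists_isPPart hM.1 g
  refine ⟨x⁻¹ * g, pPart_mul_eq hx, ?_⟩
  rw [map_mul, map_inv, show QuotientGroup.mk' N x = 1 from
    (QuotientGroup.eq_one_iff x).mpr (pPart_mem_of_regular_image hx hg), inv_one, one_mul]

variable {D : Subgroup G}

variable [hDn : D.Normal]

/-- An element of order prime to `p` trivial modulo the derived group of a `p`-group centralizes. -/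
theorem mem_centralizer_of_mod (hM : IsPModular p M) (hD : IsPGroup p D) {x : G}
    (hx : IsPRegular p x)
    (h : ∀ k ∈ D, x * k * x⁻¹ * k⁻¹ ∈ ⁅D, D⁆) : x ∈ Subgroup.centralizer (D : Set G) := by
  have : Fact p.Prime := ⟨hM.1⟩
  haveI : (⁅D, D⁆).Normal := Subgroup.commutator_normal D D
  refine CfsgLib.Coprime.le_centralizer_of_frattini (A := Subgroup.zpowers x)
    (by rw [Subgroup.normalizer_eq_top]; exact le_top) ?_ ?_ (Subgroup.mem_zpowers x)
  · obtain ⟨k, hk⟩ := IsPGroup.iff_card.mp (hD.to_subgroup (frattini D))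
    rw [Nat.card_zpowers, hk]
    exact Nat.Coprime.pow_right _ (hM.1.coprime_iff_not_dvd.mpr hx).symm
  · have hle : ⁅D, D⁆ ≤ (frattini D).map D.subtype := by
      rw [← Subgroup.map_subtype_commutator]
      exact Subgroup.map_mono (CfsgLib.PSolvable.commutator_le_frattini hD).1
    intro a ha k hk
    refine hle ((QuotientGroup.eq_one_iff _).mp ?_)
    set π := QuotientGroup.mk' ⁅D, D⁆
    show π (a * k * a⁻¹ * k⁻¹) = 1
    have hc : Commute (π x) (π k) := by
      have := (QuotientGroup.eq_one_iff _).mpr (h k hk)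
      change π (x * k * x⁻¹ * k⁻¹) = 1 at this
      rwa [map_mul, map_mul, map_mul, map_inv, map_inv, mul_inv_eq_one, mul_inv_eq_iff_eq_mul] at this
    obtain ⟨i, rfl⟩ := Subgroup.mem_zpowers_iff.mp ha
    rw [map_mul, map_mul, map_mul, map_inv, map_inv, map_zpow, (hc.zpow_left i).eq,
      mul_inv_cancel_right, mul_inv_cancel]

theorem cent_normal : (Subgroup.centralizer (D : Set G)).Normal :=
  ⟨fun n hn g => (conj_mem_cent_iff g n).mpr hn⟩

open Classical in
/-- The block of a constituent on `C(D)` gives a pair. -/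
theorem pair_of_constituent (hM : IsPModular p M) (hB : IsPBlock M B) (hDp : IsPGroup p D)
    [(Subgroup.centralizer (D : Set G)).Normal] {χ : IrrCharacter G} (hχ : χ ∈ B)
    {ψ : IrrCharacter (Subgroup.centralizer (D : Set G))}
    (hcon : classInner (fun n : Subgroup.centralizer (D : Set G) => (χ : G → ℂ) n)
      (ψ : Subgroup.centralizer (D : Set G) → ℂ) ≠ 0) :
    IsBrauerPairOf p M B D (blockOf M (ψ : Subgroup.centralizer (D : Set G) → ℂ)) := by
  classical
  refine isBrauerPairOf_of_res hB ⟨hDp, isPBlock_blockOf ψ⟩ (mem_blockOf_self ψ) ?_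
  have h := omega_eq_of_constituent hcon (isClassFunction_blockCoeff B)
    (fun g hg => blockCoeff_eq_zero_of_not_centralizing hM D hDp hB hg)
  rw [omega_blockCoeff, indVec_of_mem hχ] at h
  have e : brauerOmega D (blockCoeff B) (ψ : Subgroup.centralizer (D : Set G) → ℂ) =
      omega (ψ : Subgroup.centralizer (D : Set G) → ℂ)
        (fun n : Subgroup.centralizer (D : Set G) => blockCoeff B (n : G)) := by
    rw [brauerOmega, finsum_eq_sum_of_fintype, omega, Finset.sum_div]
  rw [e, ← h, res_one]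

open Classical in
/-- In a block of `C(D)` below the defect group the regular values are given by the degree. -/
theorem regular_value_eq (hM : IsPModular p M) (hB : IsPBlock M B) (hD : IsDefectGroup p M B D)
    [(Subgroup.centralizer (D : Set G)).Normal] {χ : IrrCharacter G} (hχ : χ ∈ B)
    {c : Set (IrrCharacter (Subgroup.centralizer (D : Set G)))} (hc : IsPBlock M c)
    {ψ : IrrCharacter (Subgroup.centralizer (D : Set G))} (hψ : ψ ∈ c)
    (hcon : classInner (fun n : Subgroup.centralizer (D : Set G) => (χ : G → ℂ) n)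
      (ψ : Subgroup.centralizer (D : Set G) → ℂ) ≠ 0)
    {σ σ' : IrrCharacter (Subgroup.centralizer (D : Set G))} (hσ : σ ∈ c) (hσ' : σ' ∈ c)
    (hdeg : (σ : Subgroup.centralizer (D : Set G) → ℂ) 1 = (σ' : Subgroup.centralizer (D : Set G) → ℂ) 1)
    {s : Subgroup.centralizer (D : Set G)} (hs : IsPRegular p s) :
    (σ : Subgroup.centralizer (D : Set G) → ℂ) s = (σ' : Subgroup.centralizer (D : Set G) → ℂ) s := by
  classical
  have : Fact p.Prime := ⟨hM.1⟩
  obtain ⟨Q₀, hQ₀⟩ := exists_isDefectGroup hM hc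
  set Q := Q₀.map (Subgroup.centralizer (D : Set G)).subtype with hQdef
  have hQN : Q ≤ (Subgroup.centralizer (D : Set G)) := Subgroup.map_subtype_le Q₀
  have hQ' : IsDefectGroup p M c (Q.subgroupOf (Subgroup.centralizer (D : Set G))) := by
    rwa [hQdef, Subgroup.subgroupOf, Subgroup.comap_map_eq_self_of_injective (Subgroup.centralizer (D : Set G)).subtype_injective]
  obtain ⟨P', hP', hinf⟩ := exists_defectGroup_inf_eq hc hB hχ hψ hcon hM hQN hQ' hD
  obtain ⟨x, hx⟩ := IsDefectGroup.exists_conj_eq hM hB hD hP'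
  have hP'D : P' = D := by
    rw [hx]
    exact Subgroup.mem_normalizer_iff_map_conj_eq.mp (by rw [Subgroup.normalizer_eq_top]; exact Subgroup.mem_top x)
  have hcen : Q.subgroupOf (Subgroup.centralizer (D : Set G)) ≤ Subgroup.center (Subgroup.centralizer (D : Set G)) := fun z hz => Subgroup.mem_center_iff.mpr fun y =>
    Subtype.ext ((y.2 (z : G) (hP'D ▸ (hinf ▸ hz : (z : G) ∈ P' ⊓ (Subgroup.centralizer (D : Set G))).1)).symm)
  have htop : Q.subgroupOf (Subgroup.centralizer (D : Set G)) ⊔ Subgroup.centralizer (Q.subgroupOf (Subgroup.centralizer (D : Set G)) : Set (Subgroup.centralizer (D : Set G))) = ⊤ := by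
    rw [show Subgroup.centralizer (Q.subgroupOf (Subgroup.centralizer (D : Set G)) : Set (Subgroup.centralizer (D : Set G))) = ⊤ from
      Subgroup.centralizer_eq_top_iff_subset.mpr hcen, sup_top_eq]
  obtain ⟨θ, -, -, -, -, hval, -, -⟩ :=
    central_defect_structure p M hM _ (IsDefectGroup.isPGroup hM hQ') htop c hc hQ'
  have h1 := hval σ hσ 1 (one_mem _) s hs
  have h2 := hval σ' hσ' 1 (one_mem _) s hs
  rw [one_mul] at h1 h2
  rw [h1, h2, hdeg]

set_option maxHeartbeats 1600000 in
/-- **Equal degrees at height zero make the inertial quotient trivial.** -/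
theorem exists_max_pair (hM : IsPModular p M) (hB : IsPBlock M B) (hD : IsDefectGroup p M B D)
    {f : ℕ} (hdeg : ∀ χ ∈ B, blockHeight p B (χ : G → ℂ) = 0 → charDegree (χ : G → ℂ) = f) :
    ∃ c, IsMaximalBrauerPair p M B D c ∧
      ∀ t ∈ blockT D c, IsPRegular p t → t ∈ Subgroup.centralizer (D : Set G) := by
  classical
  have hfact : Fact p.Prime := ⟨hM.1⟩
  have hDp : IsPGroup p D := IsDefectGroup.isPGroup hM hD
  haveI hCn : (Subgroup.centralizer (D : Set G)).Normal := cent_normal
  set N := ⁅D, D⁆ with hN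
  haveI : N.Normal := Subgroup.commutator_normal D D
  haveI : Fintype (G ⧸ N) := Fintype.ofFinite _
  set π := QuotientGroup.mk' N with hπ
  have hπs : Function.Surjective π := QuotientGroup.mk'_surjective N
  have hND : N ≤ D := Subgroup.commutator_le_self D
  -- a block of the quotient
  obtain ⟨χ₀, hχ₀, htriv⟩ := exists_mem_trivial_on_normal_pgroup hM hB D hDp
  obtain ⟨η₀, hη₀⟩ := exists_inflate_eq_of_ker N χ₀ fun u hu => htriv u (hND hu)
  set B' := blockOf M (η₀ : G ⧸ N → ℂ) with hB'def
  have hB' : IsPBlock M B' := isPBlock_blockOf η₀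
  have hinfl : ∀ η ∈ B', inflate π hπs η ∈ B := fun η hη => by
    refine IsPBlock.mem_of_sameBlock hB hχ₀ ?_
    rw [hη₀]
    exact sameBlock_inflate π hπs (IsPBlock.sameBlock hB' (mem_blockOf_self η₀) hη)
  have hdegi : ∀ η : IrrCharacter (G ⧸ N),
      charDegree (inflate π hπs η : G → ℂ) = charDegree (η : G ⧸ N → ℂ) := fun η => by
    refine Nat.cast_injective (R := ℂ) ?_
    rw [← (irr_degree_eq (inflate π hπs η)).1, ← (irr_degree_eq η).1]
    show (η : G ⧸ N → ℂ) (π 1) = _
    rw [map_one]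
  set D' := D.map π with hD'def
  haveI hD'n : D'.Normal := Subgroup.Normal.map hDn π hπs
  have hD'p : IsPGroup p D' := hDp.map π
  have hab : ∀ x ∈ D', ∀ y ∈ D', x * y = y * x := by
    rintro _ ⟨x, hx, rfl⟩ _ ⟨y, hy, rfl⟩
    rw [← commutatorElement_eq_one_iff_mul_comm, ← map_commutatorElement]
    exact (QuotientGroup.eq_one_iff _).mpr (Subgroup.commutator_mem_commutator hx hy)
  -- the sizes
  set a := (Nat.card G).factorization p
  set δ := (Nat.card N).factorization p with hδ
  have hcardD : Nat.card D = p ^ blockDefect p B := IsDefectGroup.card_eq hM hB hD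
  have hcard' : Nat.card D = Nat.card D' * Nat.card N := by
    rw [hD'def, ← Nat.card_congr (Subgroup.subgroupOfEquivOfLe hND).toEquiv,
      Subgroup.card_eq_card_quotient_mul_card_subgroup (N.subgroupOf D)]
    congr 1
    have hker : (π.comp D.subtype).ker = N.subgroupOf D := by
      ext z
      rw [MonoidHom.mem_ker, MonoidHom.comp_apply, hπ, QuotientGroup.mk'_apply,
        QuotientGroup.eq_one_iff, Subgroup.mem_subgroupOf]
      rfl
    rw [← hker, Nat.card_congr (QuotientGroup.quotientKerEquivRange (π.comp D.subtype)).toEquiv,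
      MonoidHom.range_comp, Subgroup.range_subtype]
  obtain ⟨d', hd'⟩ := IsPGroup.iff_card.mp hD'p
  obtain ⟨δ', hδ'⟩ := IsPGroup.iff_card.mp (hDp.to_le hND)
  have hδδ : δ = δ' := by
    rw [hδ, hδ', hM.1.factorization_pow, Finsupp.single_eq_same]
  have hd : blockDefect p B = d' + δ := by
    refine Nat.pow_right_injective hM.1.two_le ?_
    show p ^ blockDefect p B = p ^ (d' + δ)
    rw [← hcardD, hcard', hd', hδ', hδδ, pow_add]
  have ha : a = (Nat.card (G ⧸ N)).factorization p + δ := by
    rw [hδ]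
    show (Nat.card G).factorization p = _
    rw [Subgroup.card_eq_card_quotient_mul_card_subgroup N,
      Nat.factorization_mul Nat.card_pos.ne' Nat.card_pos.ne', Finsupp.add_apply]
  obtain ⟨hdle, -, hall, -⟩ := blockDefect_le_and_degree hM hB
  have hall' : ∀ η ∈ B', (Nat.card (G ⧸ N)).factorization p - d' ≤
      (charDegree (η : G ⧸ N → ℂ)).factorization p := fun η hη => by
    have h := hall _ (hinfl η hη)
    rw [hdegi] at h
    omega
  -- the defect group of the quotient block
  have hB'D : IsDefectGroup p M B' D' := by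
    obtain ⟨P, hP⟩ := exists_isDefectGroup hM hB'
    have hle := IsDefectGroup.normal_le hM hB' hP D' hD'p
    obtain ⟨hd'le, -, -, η, hη, heq⟩ := blockDefect_le_and_degree hM hB'
    have h1 := hall' η hη
    suffices h : D' = P by rwa [h]
    refine Subgroup.eq_of_le_of_card_ge hle ?_
    rw [IsDefectGroup.card_eq hM hB' hP, hd']
    exact Nat.pow_le_pow_right hM.1.pos (by omega)
  have hd'' : blockDefect p B' = d' :=
    Nat.pow_right_injective hM.1.two_le ((IsDefectGroup.card_eq hM hB' hB'D).symm.trans hd')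
  -- all degrees are equal
  have hdeg' : ∀ η ∈ B', charDegree (η : G ⧸ N → ℂ) = f := fun η hη => by
    rw [← hdegi]
    refine hdeg _ (hinfl η hη) ((blockHeight_eq_zero_iff hM hB (hinfl η hη)).mpr ?_)
    rw [hdegi]
    refine le_antisymm ?_ (by have := hall _ (hinfl η hη); rwa [hdegi] at this)
    haveI : Fintype D' := Fintype.ofFinite _
    obtain ⟨θ, hθ⟩ := Char.exists_constituent D' (Char.isCharacter_of_isIrr η.2)
      (Char.irr_degree_ne_zero η.2)
    obtain ⟨k, hk, hkdvd⟩ := Char.degree_ratio D' θ.2 η.2 hθ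
    rw [Char.degree_one_of_comm (fun u v => Subtype.ext (hab _ u.2 _ v.2)) θ, mul_one,
      (irr_degree_eq η).1] at hk
    have hk' : charDegree (η : G ⧸ N → ℂ) = k := Nat.cast_injective hk
    rw [hk']
    have hidx : (D'.index).factorization p = a - blockDefect p B := by
      have h2 : (Nat.card (G ⧸ N)).factorization p = d' + D'.index.factorization p := by
        rw [← D'.card_mul_index, Nat.factorization_mul Nat.card_pos.ne'
          D'.index_ne_zero_of_finite, Finsupp.add_apply, hd', hM.1.factorization_pow,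
          Finsupp.single_eq_same]
      omega
    rw [← hidx]
    exact (Nat.factorization_le_iff_dvd (fun h => (irr_degree_eq η).2.ne' (hk'.trans h))
      D'.index_ne_zero_of_finite).mpr hkdvd p
  -- the characters of the centralizers
  set C := Subgroup.centralizer (D : Set G) with hCdef
  obtain ⟨ψ, hψ⟩ := Char.exists_constituent C
    (Char.isCharacter_of_isIrr χ₀.2) (Char.irr_degree_ne_zero χ₀.2)
  set c := blockOf M (ψ : C → ℂ) with hcdef
  have hpair : IsBrauerPairOf p M B D c := pair_of_constituent hM hB hDp hχ₀ hψ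
  refine ⟨c, isMaximalBrauerPair_of_defectGroup hM hD hpair, ?_⟩
  set C' := Subgroup.centralizer (D' : Set (G ⧸ N)) with hC'def
  haveI hC'n : C'.Normal := cent_normal
  have hCC' : ∀ n : C, π n ∈ C' := fun n => by
    refine Subgroup.mem_centralizer_iff.mpr ?_
    rintro _ ⟨z, hz, rfl⟩
    rw [← map_mul, ← map_mul, n.2 z hz]
  -- a constituent on the centralizer in the quotient lying over `ψ`
  obtain ⟨ξ, hξ1, hξ2⟩ : ∃ ξ : IrrCharacter C',
      classInner (fun n : C' => (η₀ : G ⧸ N → ℂ) n) (ξ : C' → ℂ) ≠ 0 ∧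
      classInner (fun n : C => (ξ : C' → ℂ) ⟨π n, hCC' n⟩) (ψ : C → ℂ) ≠ 0 := by
    have hexp : (fun n : C => (χ₀ : G → ℂ) n) = ∑ ξ : IrrCharacter C',
        classInner (fun n : C' => (η₀ : G ⧸ N → ℂ) n) (ξ : C' → ℂ) •
          fun n : C => (ξ : C' → ℂ) ⟨π n, hCC' n⟩ := by
      funext n
      have h := congrFun (Char.classFunction_expansion
        (Char.isClassFunction_restrict C' (irr_classFunction η₀))) ⟨π n, hCC' n⟩
      rw [hη₀]
      show (η₀ : G ⧸ N → ℂ) (π n) = _
      simp only [Finset.sum_apply, Pi.smul_apply] at h ⊢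
      exact h
    have h1 := hψ
    rw [hexp, Char.classInner_sum_left] at h1
    obtain ⟨ξ, -, hξ⟩ := Finset.exists_ne_zero_of_sum_ne_zero h1
    rw [Char.classInner_smul_left] at hξ
    exact ⟨ξ, left_ne_zero_of_mul hξ, right_ne_zero_of_mul hξ⟩
  set c' := blockOf M (ξ : C' → ℂ) with hc'def
  have hmax' := isMaximalBrauerPair_of_defectGroup hM hB'D
    (pair_of_constituent hM hB' hD'p (mem_blockOf_self η₀) hξ1)
  have hnil := EqualDegree.isNilpotentBlock hM hmax' hab hdeg'
  -- Clifford theory in the preimage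
  set K := C'.comap π with hK
  haveI : Fintype K := Fintype.ofFinite _
  have hCK : C ≤ K := fun n hn => hCC' ⟨n, hn⟩
  let φ : K →* C' := (π.comp K.subtype).codRestrict C' fun k => k.2
  have hφ : Function.Surjective φ := fun z => by
    obtain ⟨g, hg⟩ := hπs z
    exact ⟨⟨g, show π g ∈ C' from hg ▸ z.2⟩, Subtype.ext hg⟩
  set C₀ := C.subgroupOf K with hC₀
  haveI : C₀.Normal := ⟨fun n hn k => hCn.conj_mem (n : G) hn (k : G)⟩
  haveI : Fintype C₀ := Fintype.ofFinite _
  let e : C₀ ≃* C := Subgroup.subgroupOfEquivOfLe hCK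
  let ψ' : C₀ → ℂ := fun n => (ψ : C → ℂ) (e n)
  have hψ'i : IsIrrCharacter C₀ ψ' := Char.isIrrCharacter_comp_mulEquiv e ψ.2
  set ξ' : IrrCharacter K := inflate φ hφ ξ with hξ'def
  have hξψ : classInner (fun n : C₀ => (ξ' : K → ℂ) n) ψ' ≠ 0 := by
    rw [show (fun n : C₀ => (ξ' : K → ℂ) n) =
      fun n : C₀ => (fun m : C => (ξ : C' → ℂ) ⟨π m, hCC' m⟩) (e n) from funext fun n => rfl,
      Char.classInner_comp_mulEquiv e (fun m : C => (ξ : C' → ℂ) ⟨π m, hCC' m⟩) (ψ : C → ℂ)]
    exact hξ2
  have hcl := Char.clifford C₀ ξ'.2 hψ'i hξψ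
  have hsum := Char.sum_conjBy C₀ ψ'
  set mlt := classInner (fun n : C₀ => (ξ' : K → ℂ) n) ψ'
  have hformula : ∀ (y : G) (hy : y ∈ C), (Nat.card (Char.inertia C₀ ψ') : ℂ) *
      (ξ : C' → ℂ) ⟨π y, hCC' ⟨y, hy⟩⟩ =
      mlt * ∑ k : K, (ψ : C → ℂ) ⟨(k : G) * y * (k : G)⁻¹, hCn.conj_mem y hy k⟩ := by
    intro y hy
    have h1 := congrFun hcl (e.symm ⟨y, hy⟩)
    have h2 := congrFun hsum (e.symm ⟨y, hy⟩)
    simp only [Finset.sum_apply, Pi.smul_apply, smul_eq_mul] at h1 h2
    show _ * (ξ' : K → ℂ) (e.symm ⟨y, hy⟩ : C₀) = _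
    rw [h1, mul_left_comm, ← h2]
    rfl
  intro t ht hreg
  have hstab := (mem_blockT.mp ht).2
  obtain ⟨-, htc⟩ := stabilizesBlock_iff.mp hstab
  -- the values are fixed by `t`
  have hfix : ∀ x' : C', IsPRegular p x' →
      (ξ : C' → ℂ) x' = (Char.conjBy C' (ξ : C' → ℂ) (π t)) x' := by
    intro x' hx'
    obtain ⟨g, hg⟩ := hπs (x' : G ⧸ N)
    obtain ⟨y, hy, hyg⟩ := exists_regular_lift hM N g (by
      rw [← hπ, hg]; exact isPRegular_map C'.subtype hx')
    rw [← hπ, hg] at hyg
    have hyC : y ∈ C := by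
      refine mem_centralizer_of_mod hM hDp hy fun k hk => (QuotientGroup.eq_one_iff _).mp ?_
      show π (y * k * y⁻¹ * k⁻¹) = 1
      rw [map_mul, map_mul, map_mul, map_inv, map_inv, hyg, ← x'.2 (π k) ⟨k, hk, rfl⟩,
        mul_inv_cancel_right, mul_inv_cancel]
    have hty : t * y * t⁻¹ ∈ C := hCn.conj_mem y hyC t
    have hI : (Nat.card (Char.inertia C₀ ψ') : ℂ) ≠ 0 := Nat.cast_ne_zero.mpr Nat.card_pos.ne'
    refine mul_left_cancel₀ hI ?_
    have e1 : (ξ : C' → ℂ) x' = (ξ : C' → ℂ) ⟨π y, hCC' ⟨y, hyC⟩⟩ := congrArg _ (Subtype.ext hyg.symm)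
    have e2 : Char.conjBy C' (ξ : C' → ℂ) (π t) x' =
        (ξ : C' → ℂ) ⟨π (t * y * t⁻¹), hCC' ⟨_, hty⟩⟩ := by
      rw [Char.conjBy_apply]
      exact congrArg _ (Subtype.ext (show π t * (x' : G ⧸ N) * (π t)⁻¹ = π (t * y * t⁻¹) by
        rw [map_mul, map_mul, map_inv, hyg]))
    rw [e1, e2, hformula y hyC, hformula _ hty]
    congr 1
    -- the conjugate of `ψ` by `t` agrees with `ψ` at the regular elements
    set ψt := conjI t ψ with hψt
    have hψtc : ψt ∈ c := (mem_conjSet_normal_iff t c ψ).mp (htc.symm ▸ mem_blockOf_self ψ)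
    have hval : ∀ z : C, IsPRegular p z → (ψ : C → ℂ) ⟨t * z * t⁻¹, hCn.conj_mem z z.2 t⟩ =
        (ψ : C → ℂ) z := fun z hz => by
      have h := regular_value_eq hM hB hD hχ₀ hpair.1.2 (mem_blockOf_self ψ) hψ hψtc
        (mem_blockOf_self ψ) (by rw [hψt, coe_conjI, Char.conjBy_apply_one]) hz
      rw [hψt, coe_conjI, Char.conjBy_apply] at h
      exact h
    have htK : ∀ k : G, t⁻¹ * k * t ∈ K ↔ k ∈ K := fun k => by
      show π (t⁻¹ * k * t) ∈ C' ↔ π k ∈ C'
      rw [map_mul, map_mul, map_inv]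
      constructor
      · intro h
        simpa [mul_assoc] using hC'n.conj_mem _ h (π t)
      · intro h
        simpa [mul_assoc] using hC'n.conj_mem _ h (π t)⁻¹
    refine Fintype.sum_equiv
      ({ toFun := fun k => ⟨t * (k : G) * t⁻¹, (htK _).mp (by simp [mul_assoc])⟩
         invFun := fun k => ⟨t⁻¹ * (k : G) * t, (htK _).mpr k.2⟩
         left_inv := fun k => Subtype.ext (by simp [mul_assoc])
         right_inv := fun k => Subtype.ext (by simp [mul_assoc]) } : K ≃ K) _ _ fun k => ?_
    have hz : IsPRegular p (⟨(k : G) * y * (k : G)⁻¹, hCn.conj_mem y hyC k⟩ : C) := fun h => hy (by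
      rwa [← Subgroup.orderOf_coe, show orderOf ((k : G) * y * (k : G)⁻¹) = orderOf y from
        (MulAut.conj (k : G)).orderOf_eq y] at h)
    rw [← hval _ hz]
    refine congrArg _ (Subtype.ext ?_)
    show t * ((k : G) * y * (k : G)⁻¹) * t⁻¹ =
      t * (k : G) * t⁻¹ * (t * y * t⁻¹) * (t * (k : G) * t⁻¹)⁻¹
    group
  -- so `t` stabilizes the pair of the quotient
  have hπt : π t ∈ C' := by
    have hN' : π t ∈ Subgroup.normalizer (D' : Set (G ⧸ N)) := by
      rw [Subgroup.normalizer_eq_top]; exact Subgroup.mem_top _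
    refine hnil.2 D' c' hmax'.1 (π t) hN' ?_ (isPRegular_map π hreg)
    refine stabilizesBlock_iff.mpr ⟨mem_normalizer_centralizer hN', ?_⟩
    refine IsPBlock.eq_of_mem_of_mem (isPBlock_conjSet (conj_mem_cent_iff (π t)) hmax'.1.1.2)
      hmax'.1.1.2 (χ := ξ) ((mem_conjSet_normal_iff (π t) c' ξ).mpr
        (IsPBlock.mem_of_sameBlock hmax'.1.1.2 (mem_blockOf_self ξ) ?_)) (mem_blockOf_self ξ)
    exact sameBlock_of_regular_eq hM fun g hg => by rw [coe_conjI]; exact hfix g hg
  refine mem_centralizer_of_mod hM hDp hreg fun k hk => (QuotientGroup.eq_one_iff _).mp ?_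
  show π (t * k * t⁻¹ * k⁻¹) = 1
  rw [map_mul, map_mul, map_mul, map_inv, map_inv, ← hπt (π k) ⟨k, hk, rfl⟩,
    mul_inv_cancel_right, mul_inv_cancel]

end CfsgLib.Blocks.NormalDefect
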